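import Groth.Agent.DimIneqLib.Scheme
import Groth.Agent.S1405
import Groth.Agent.DimIneqLib.Fibre
import Groth.Prelude.Def_W4c6detectregular2Detect

/-!
# Relative dimension over a Noetherian base: strict decrease along specializations
-/

set_option autoImplicit false
set_option linter.style.haveILetI false
set_option backward.isDefEq.respectTransparency false
set_option backward.isDefEq.respectTransparency.types false
universe u

open Cardinal AlgebraicGeometry CategoryTheory TopologicalSpace DimIneqLib W4c6detectregular2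

noncomputable section

namespace DetRegLib

theorem height_head_add_length_le {α : Type u} [Preorder α] (l : LTSeries α) :
    Order.height l.head + l.length ≤ Order.height l.last := by
  have h : ∀ (i : ℕ) (hi : i < l.length + 1), Order.height l.head + i ≤ Order.height (l ⟨i, hi⟩) := by
    intro i
    induction i with
    | zero => intro hi; simp [RelSeries.head]
    | succ i ih =>
      intro hi
      rw [Nat.cast_succ, ← add_assoc]
      refine le_trans (add_le_add (ih (by omega)) le_rfl) (Order.height_add_one_le (l.strictMono ?_))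
      exact Nat.lt_succ_self i
  exact h l.length (Nat.lt_succ_self _)

/-- Chains below and above a prime concatenate. -/
theorem height_quotient_add_le {S : Type u} [CommRing S] [IsNoetherianRing S] {P p : Ideal S} [P.IsPrime] [p.IsPrime]
    (h : P ≤ p) [(p.map (Ideal.Quotient.mk P)).IsPrime] :
    (p.map (Ideal.Quotient.mk P)).height + P.height ≤ p.height := by
  obtain ⟨n, hn⟩ := ENat.ne_top_iff_exists.1 (Ideal.height_ne_top (I := p.map (Ideal.Quotient.mk P)) Ideal.IsPrime.ne_top')
  obtain ⟨m, hm⟩ := ENat.ne_top_iff_exists.1 (Ideal.height_ne_top (I := P) Ideal.IsPrime.ne_top')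
  have e := PrimeSpectrum.height_eq_orderHeight (⟨p.map (Ideal.Quotient.mk P), inferInstance⟩ : PrimeSpectrum (S ⧸ P))
  have e' := PrimeSpectrum.height_eq_orderHeight (⟨P, inferInstance⟩ : PrimeSpectrum S)
  have e'' := PrimeSpectrum.height_eq_orderHeight (⟨p, inferInstance⟩ : PrimeSpectrum S)
  simp only at e e' e''
  obtain ⟨l, hl, hlen⟩ := Order.exists_series_of_height_eq_coe _ (e.symm.trans hn.symm)
  obtain ⟨l₀, hl₀, hlen₀⟩ := Order.exists_series_of_height_eq_coe _ (e'.symm.trans hm.symm)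
  let g : PrimeSpectrum (S ⧸ P) → PrimeSpectrum S := PrimeSpectrum.comap (Ideal.Quotient.mk P)
  have hg : StrictMono g := Monotone.strictMono_of_injective (fun _ _ h => Ideal.comap_mono h)
    (PrimeSpectrum.comap_injective_of_surjective _ Ideal.Quotient.mk_surjective)
  let l' : LTSeries (PrimeSpectrum S) := l.map g hg
  have hlast : l'.last = ⟨p, inferInstance⟩ := by
    refine (LTSeries.last_map l g hg).trans ?_
    rw [hl]
    refine PrimeSpectrum.ext ?_
    show Ideal.comap _ (p.map (Ideal.Quotient.mk P)) = p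
    rw [Ideal.comap_map_of_surjective _ Ideal.Quotient.mk_surjective, ← RingHom.ker_eq_comap_bot, Ideal.mk_ker,
      sup_eq_left.mpr h]
  have hhead : (⟨P, inferInstance⟩ : PrimeSpectrum S) ≤ l'.head := by
    show P ≤ (g l.head).asIdeal
    intro a ha
    show Ideal.Quotient.mk P a ∈ l.head.asIdeal
    rw [Ideal.Quotient.eq_zero_iff_mem.2 ha]
    exact zero_mem _
  have key : (l₀.length : ℕ∞) + l'.length ≤ Order.height l'.last := by
    refine le_trans (add_le_add ?_ le_rfl) (height_head_add_length_le l')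
    refine le_trans ?_ (Order.height_mono hhead)
    rw [← hl₀]
    exact Order.length_le_height_last
  rw [← hn, ← hm, e'', ← hlast, add_comm, ← hlen, ← hlen₀]
  exact key

/-- the dimension inequality at a point, for some generic point of a component through it -/
theorem stalk_add_le {X S : Scheme.{u}} [IsLocallyNoetherian S] (f : X ⟶ S) [LocallyOfFiniteType f] (x : X) :
    ∃ ξ : X, (∀ z, z ⤳ ξ → z = ξ) ∧ ξ ⤳ x ∧
      ringKrullDim (X.presheaf.stalk x) + (trH (f.residueFieldMap x).hom : WithBot ℕ∞) + ringKrullDim (S.presheaf.stalk (f ξ)) ≤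
        ringKrullDim (S.presheaf.stalk (f x)) + (trH (f.residueFieldMap ξ).hom : WithBot ℕ∞) := by
  obtain ⟨U, hU, hsU, -⟩ := exists_isAffineOpen_mem_and_subset (X := S) (x := f x) (U := ⊤) trivial
  obtain ⟨V, hV, hxV, hVU⟩ := exists_isAffineOpen_mem_and_subset (X := X) (x := x) (U := f ⁻¹ᵁ U) hsU
  haveI : IsNoetherianRing Γ(S, U) := IsLocallyNoetherian.component_noetherian ⟨U, hU⟩
  letI : Algebra Γ(S, U) Γ(X, V) := (f.appLE U V hVU).hom.toAlgebra
  haveI hft : Algebra.FiniteType Γ(S, U) Γ(X, V) := f.finiteType_appLE hU hV hVU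
  haveI : IsNoetherianRing Γ(X, V) := Algebra.FiniteType.isNoetherianRing Γ(S, U) Γ(X, V)
  let P := (hV.primeIdealOf ⟨x, hxV⟩).asIdeal
  let p := (hU.primeIdealOf ⟨f x, hVU hxV⟩).asIdeal
  have hover : P.comap (algebraMap Γ(S, U) Γ(X, V)) = p :=
    congrArg PrimeSpectrum.asIdeal (IsAffineOpen.comap_primeIdealOf_appLE U hU V hV hVU hxV)
  haveI : P.LiesOver p := ⟨hover.symm⟩
  obtain ⟨Q, hQp, hQmin, hQP, hQh⟩ := exists_minimal_height P
  let ξ : X := hV.fromSpec ⟨Q, hQp⟩
  have hξV : ξ ∈ V := by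
    show ξ ∈ (V : Set X)
    rw [← hV.range_fromSpec]; exact ⟨_, rfl⟩
  have hξQ : (hV.primeIdealOf ⟨ξ, hξV⟩) = ⟨Q, hQp⟩ :=
    hV.fromSpec.isOpenEmbedding.injective (hV.fromSpec_primeIdealOf _)
  have hξx : ξ ⤳ x := by
    have h := ((PrimeSpectrum.le_iff_specializes ⟨Q, hQp⟩ (hV.primeIdealOf ⟨x, hxV⟩)).mp hQP).map hV.fromSpec.continuous
    rwa [show hV.fromSpec (hV.primeIdealOf ⟨x, hxV⟩) = x from hV.fromSpec_primeIdealOf ⟨x, hxV⟩] at h
  have hξmax : ∀ z, z ⤳ ξ → z = ξ := fun z hz => by
    obtain ⟨q, rfl⟩ : z ∈ Set.range hV.fromSpec := by rw [hV.range_fromSpec]; exact hz.mem_open V.2 hξV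
    have hq : q.asIdeal ≤ Q :=
      (PrimeSpectrum.le_iff_specializes q ⟨Q, hQp⟩).mpr (hV.fromSpec.isOpenEmbedding.isInducing.specializes_iff.mp hz)
    exact congrArg hV.fromSpec (PrimeSpectrum.ext (le_antisymm hq (hQmin.2 ⟨q.2, bot_le⟩ hq)))
  refine ⟨ξ, hξmax, hξx, ?_⟩
  let p₀ := (hU.primeIdealOf ⟨f ξ, hVU hξV⟩).asIdeal
  have hover₀ : Q.comap (algebraMap Γ(S, U) Γ(X, V)) = p₀ := by
    have := congrArg PrimeSpectrum.asIdeal (IsAffineOpen.comap_primeIdealOf_appLE U hU V hV hVU hξV)
    rw [hξQ] at this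
    exact this
  haveI : Q.LiesOver p₀ := ⟨hover₀.symm⟩
  haveI : (P.map (Ideal.Quotient.mk Q)).IsPrime :=
    Ideal.map_isPrime_of_surjective Ideal.Quotient.mk_surjective (by rw [Ideal.mk_ker]; exact hQP)
  have hp₀p : p₀ ≤ p := by rw [← hover, ← hover₀]; exact Ideal.comap_mono hQP
  haveI : (p.map (Ideal.Quotient.mk p₀)).IsPrime :=
    Ideal.map_isPrime_of_surjective Ideal.Quotient.mk_surjective (by rw [Ideal.mk_ker]; exact hp₀p)
  let P' := P.map (Ideal.Quotient.mk Q)
  let p' := p.map (Ideal.Quotient.mk p₀)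
  have hP'c : P'.comap (Ideal.Quotient.mk Q) = P := by
    rw [Ideal.comap_map_of_surjective _ Ideal.Quotient.mk_surjective, ← RingHom.ker_eq_comap_bot, Ideal.mk_ker,
      sup_eq_left.mpr hQP]
  have hp'c : p'.comap (Ideal.Quotient.mk p₀) = p := by
    rw [Ideal.comap_map_of_surjective _ Ideal.Quotient.mk_surjective, ← RingHom.ker_eq_comap_bot, Ideal.mk_ker,
      sup_eq_left.mpr hp₀p]
  haveI : P'.LiesOver p' := ⟨Ideal.comap_injective_of_surjective _ Ideal.Quotient.mk_surjective (by
    rw [hp'c, ← hover, ← hP'c, Ideal.under, Ideal.comap_comap, Ideal.comap_comap]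
    rfl)⟩
  haveI : Algebra.FiniteType Γ(S, U) (Γ(X, V) ⧸ Q) :=
    Algebra.FiniteType.of_surjective (Ideal.Quotient.mkₐ Γ(S, U) Q) Ideal.Quotient.mk_surjective
  haveI : Algebra.FiniteType (Γ(S, U) ⧸ p₀) (Γ(X, V) ⧸ Q) :=
    Algebra.FiniteType.of_restrictScalars_finiteType Γ(S, U) _ _
  have hmain := main (R := Γ(S, U) ⧸ p₀) P' p'
  -- transcendence degrees
  have hx1 := ker_evaluation hV x hxV
  have hs1 := ker_evaluation hU (f x) (hVU hxV)
  have e1 : tr ((Γ(S, U) ⧸ p₀) ⧸ p') ((Γ(X, V) ⧸ Q) ⧸ P') = trH (f.residueFieldMap x).hom := by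
    refine (trH_eq P' p' (Ideal.Quotient.lift p₀ (S.evaluation U (f x) (hVU hxV)).hom fun r hr => ?_)
      (Ideal.Quotient.lift Q (X.evaluation V x hxV).hom fun r hr => ?_) ?_ ?_ (hs1.2.lift p₀ _) (hx1.2.lift Q _) _ ?_).symm
    · rw [← RingHom.mem_ker, hs1.1]; exact hp₀p hr
    · rw [← RingHom.mem_ker, hx1.1]; exact hQP hr
    · refine Ideal.comap_injective_of_surjective _ Ideal.Quotient.mk_surjective ?_
      rw [hp'c, RingHom.comap_ker, Ideal.Quotient.lift_comp_mk, hs1.1]
    · refine Ideal.comap_injective_of_surjective _ Ideal.Quotient.mk_surjective ?_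
      rw [hP'c, RingHom.comap_ker, Ideal.Quotient.lift_comp_mk, hx1.1]
    · refine Ideal.Quotient.ringHom_ext (RingHom.ext fun r => ?_)
      exact RingHom.congr_fun (evaluation_appLE f hVU x hxV) r
  have hξ1 := ker_evaluation hV ξ hξV
  have hfξ1 := ker_evaluation hU (f ξ) (hVU hξV)
  have e2 : tr (Γ(S, U) ⧸ p₀) (Γ(X, V) ⧸ Q) = trH (f.residueFieldMap ξ).hom :=
    (trH_eq Q p₀ (S.evaluation U (f ξ) (hVU hξV)).hom (X.evaluation V ξ hξV).hom hfξ1.1
      (hξ1.1.trans (by rw [hξQ])) hfξ1.2 hξ1.2 _ (evaluation_appLE f hVU ξ hξV)).symm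
  rw [e1, e2] at hmain
  have hle : P.height + trH (f.residueFieldMap x).hom + p₀.height ≤ p.height + trH (f.residueFieldMap ξ).hom := by
    refine le_trans (add_le_add (add_le_add (hQh inferInstance) le_rfl) le_rfl) ((add_le_add hmain le_rfl).trans ?_)
    rw [add_right_comm]
    exact add_le_add (height_quotient_add_le hp₀p) le_rfl
  rw [ringKrullDim_stalk hV x hxV, ringKrullDim_stalk hU (f x) (hVU hxV), ringKrullDim_stalk hU (f ξ) (hVU hξV)]
  exact_mod_cast hle


theorem trdeg_lt_aleph0_of_ess (k K : Type u) [Field k] [Field K] [Algebra k K] [Algebra.EssFiniteType k K] :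
    Algebra.trdeg k K < ℵ₀ := by
  haveI := Algebra.EssFiniteType.isLocalization k K
  haveI : Algebra.IsAlgebraic (Algebra.EssFiniteType.subalgebra k K) K :=
    IsLocalization.isAlgebraic K (Algebra.EssFiniteType.submonoid k K)
  rw [← trdeg_add_eq k (Algebra.EssFiniteType.subalgebra k K) (A := K),
    trdeg_eq_zero (R := Algebra.EssFiniteType.subalgebra k K) (A := K), add_zero]
  exact trdeg_lt_aleph0_of_finiteType

/-- The residue transcendence degree is the natural number `trdegPt`. -/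
theorem trH_eq_trdegPt {X S : Scheme.{u}} (p : X ⟶ S) [LocallyOfFiniteType p] (x : X) :
    trH (p.residueFieldMap x).hom = (trdegPt p x : ℕ∞) := by
  letI : Algebra (S.residueField (p.base x)) (X.residueField x) := (p.residueFieldMap x).hom.toAlgebra
  haveI : Algebra.EssFiniteType (S.residueField (p.base x)) (X.residueField x) :=
    Groth.Agent.S1405.essFiniteType_residueFieldMap p x
  obtain ⟨n, hn⟩ := lt_aleph0.1 (trdeg_lt_aleph0_of_ess (S.residueField (p.base x)) (X.residueField x))
  rw [trH_eq_natCast hn]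
  show (n : ℕ∞) = ((Cardinal.toNat (Algebra.trdeg (S.residueField (p.base x)) (X.residueField x)) : ℕ) : ℕ∞)
  rw [hn, Cardinal.toNat_natCast]

theorem codimPt_eq (S : Scheme.{u}) [IsLocallyNoetherian S] (s : S) :
    ringKrullDim (S.presheaf.stalk s) = ((codimPt S s : ℕ∞) : WithBot ℕ∞) := by
  obtain ⟨n, hn⟩ : ∃ n : ℕ, ringKrullDim (S.presheaf.stalk s) = ((n : ℕ∞) : WithBot ℕ∞) := by
    have h := IsLocalRing.maximalIdeal_height_eq_ringKrullDim (R := S.presheaf.stalk s)
    obtain ⟨n, hn⟩ := ENat.ne_top_iff_exists.1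
      (Ideal.height_ne_top (I := IsLocalRing.maximalIdeal (S.presheaf.stalk s)) Ideal.IsPrime.ne_top')
    exact ⟨n, by rw [← h, ← hn]⟩
  rw [codimPt, hn]
  simp

/-- Along a specialization from the generic point the relative dimension drops by at least the local dimension. -/
theorem dimPt_add_le {Y S : Scheme.{u}} [IsIntegral Y] [IsLocallyNoetherian S] (p : Y ⟶ S)
    [LocallyOfFiniteType p] (x : Y) (n : ℕ) (hn : ((n : ℕ∞) : WithBot ℕ∞) ≤ ringKrullDim (Y.presheaf.stalk x)) :
    dimPt p x + n ≤ dimPt p (genericPoint Y) := by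
  obtain ⟨ξ, hmax, -, h⟩ := stalk_add_le p x
  obtain rfl : genericPoint Y = ξ := hmax _ (genericPoint_specializes ξ)
  rw [trH_eq_trdegPt, trH_eq_trdegPt, codimPt_eq S (p (genericPoint Y)), codimPt_eq S (p x)] at h
  have h' := (add_le_add (add_le_add hn le_rfl) le_rfl).trans h
  have h2 : n + trdegPt p x + codimPt S (p (genericPoint Y)) ≤ codimPt S (p x) + trdegPt p (genericPoint Y) := by
    exact_mod_cast h'
  unfold dimPt
  change ((trdegPt p x : ℤ) - (codimPt S (p x) : ℤ)) + n ≤
    (trdegPt p (genericPoint Y) : ℤ) - (codimPt S (p (genericPoint Y)) : ℤ)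
  omega

/-- Away from the generic point the local dimension is positive. -/
theorem one_le_stalk_dim {Y : Scheme.{u}} [IsIntegral Y] {x : Y} (hx : x ≠ genericPoint Y) :
    ((1 : ℕ∞) : WithBot ℕ∞) ≤ ringKrullDim (Y.presheaf.stalk x) := by
  obtain ⟨U, hU, hxU, -⟩ := exists_isAffineOpen_mem_and_subset (X := Y) (x := x) (U := ⊤) trivial
  have hηU : genericPoint Y ∈ U := (genericPoint_specializes x).mem_open U.2 hxU
  rw [ringKrullDim_stalk hU x hxU]
  have hle : hU.primeIdealOf ⟨genericPoint Y, hηU⟩ < hU.primeIdealOf ⟨x, hxU⟩ := by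
    refine lt_of_le_of_ne ?_ fun h => hx ?_
    · rw [PrimeSpectrum.le_iff_specializes, ← hU.fromSpec.isOpenEmbedding.isInducing.specializes_iff,
        hU.fromSpec_primeIdealOf, hU.fromSpec_primeIdealOf]
      exact genericPoint_specializes x
    · have := congrArg hU.fromSpec.base h
      rw [hU.fromSpec_primeIdealOf, hU.fromSpec_primeIdealOf] at this
      exact this.symm
  refine WithBot.coe_le_coe.2 ?_
  rw [PrimeSpectrum.height_eq_orderHeight]
  exact le_trans le_add_self (Order.height_add_one_le hle)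

/-- The relative dimension of a point only depends on its residue field. -/
theorem dimPt_comp {X Y S : Scheme.{u}} (g : X ⟶ Y) (p : Y ⟶ S) [LocallyOfFiniteType g] [LocallyOfFiniteType p]
    (x : X) (hg : Function.Bijective (g.residueFieldMap x).hom) : dimPt (g ≫ p) x = dimPt p (g x) := by
  have h : trdegPt (g ≫ p) x = trdegPt p (g x) := by
    have h1 := trH_eq_trdegPt (g ≫ p) x
    have h2 := trH_eq_trdegPt p (g x)
    rw [show ((g ≫ p).residueFieldMap x).hom =
      (g.residueFieldMap x).hom.comp (p.residueFieldMap (g x)).hom from by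
        rw [Scheme.residueFieldMap_comp]; rfl, trH_comp, trH_of_bijective _ hg, add_zero, h2] at h1
    exact_mod_cast h1.symm
  unfold dimPt
  change (trdegPt (g ≫ p) x : ℤ) - _ = (trdegPt p (g x) : ℤ) - _
  rw [h]
  rfl

end DetRegLib
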