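import Groth.Agent.DetRegLib.Model

/-!
# Natural transformations detected on regular quasi-projective schemes
-/

set_option autoImplicit false
set_option linter.style.haveILetI false
set_option backward.isDefEq.respectTransparency false
set_option backward.isDefEq.respectTransparency.types false
universe u

open AlgebraicGeometry CategoryTheory CategoryTheory.Limits TopologicalSpace W4c6detectregular2

noncomputable section

namespace DetRegLib

variable {S T : Scheme.{u}} [IsNoetherian T]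

theorem loft (X : SchFT T) : LocallyOfFiniteType X.hom := X.prop.1

theorem noeth (X : SchFT T) : IsNoetherian X.left := by
  haveI := loft X
  haveI : IsLocallyNoetherian ((Functor.fromPUnit T).obj X.right) := inferInstanceAs (IsLocallyNoetherian T)
  haveI : CompactSpace ((Functor.fromPUnit T).obj X.right) := inferInstanceAs (CompactSpace T)
  haveI : QuasiCompact X.hom := X.prop.2.1
  haveI : IsLocallyNoetherian X.left := LocallyOfFiniteType.isLocallyNoetherian (X.hom : X.left ⟶ T)
  haveI : CompactSpace X.left := QuasiCompact.compactSpace_of_compactSpace (X.hom : X.left ⟶ T)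
  exact ⟨⟩

theorem ft_comp {W : Scheme.{u}} (X : SchFT T) (i : W ⟶ X.left) [LocallyOfFiniteType i] [QuasiCompact i]
    [IsSeparated i] : FT (i ≫ X.hom) := by
  haveI := loft X
  haveI : QuasiCompact X.hom := X.prop.2.1
  haveI : IsSeparated X.hom := X.prop.2.2
  exact ⟨inferInstance, inferInstance, inferInstance⟩

theorem qc_open (X : SchFT T) (U : X.left.Opens) : QuasiCompact U.ι := by
  haveI := noeth X
  infer_instance

/-- The open subscheme as an object. -/
def opn (X : SchFT T) (U : X.left.Opens) : SchFT T :=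
  MorphismProperty.Over.mk (P := FT) (@IsProper : MorphismProperty Scheme.{u}) (U.ι ≫ X.hom)
    (haveI := qc_open X U; ft_comp X U.ι)

/-- A scheme proper over an object, as an object. -/
def prp (X : SchFT T) {W : Scheme.{u}} (p : W ⟶ X.left) [IsProper p] : SchFT T :=
  MorphismProperty.Over.mk (P := FT) (@IsProper : MorphismProperty Scheme.{u}) (p ≫ X.hom) (ft_comp X p)

/-- The structure morphism of `prp`. -/
def prpHom (X : SchFT T) {W : Scheme.{u}} (p : W ⟶ X.left) [hp : IsProper p] : prp X p ⟶ X :=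
  MorphismProperty.Over.homMk p rfl hp

/-- The closed subscheme complementary to an open subscheme. -/
abbrev cplι {X : Scheme.{u}} (U : X.Opens) :=
  (Scheme.IdealSheafData.vanishingIdeal ⟨(U : Set X)ᶜ, U.2.isClosed_compl⟩).subschemeι

theorem range_cplι {X : Scheme.{u}} (U : X.Opens) : Set.range (cplι U).base = (U : Set X)ᶜ := by
  exact (Scheme.IdealSheafData.range_subschemeι _).trans (Scheme.IdealSheafData.coe_support_vanishingIdeal _)

theorem dimPt_imm {W X : Scheme.{u}} (i : W ⟶ X) [IsImmersion i] (g : X ⟶ S) [LocallyOfFiniteType g] (w : W) :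
    dimPt (i ≫ g) w = dimPt g (i w) :=
  dimPt_comp i g w (DimIneqLib.bijective_residueFieldMap i w)

theorem dimLE_cpl [IsLocallyNoetherian S] {X : Scheme.{u}} [IsIntegral X] (U : X.Opens) (g : X ⟶ S)
    [LocallyOfFiniteType g] (k : ℕ) (n : ℤ) (hn : dimPt g (genericPoint X) ≤ n)
    (hU : ∀ x : X, x ∉ U → ((k : ℕ∞) : WithBot ℕ∞) ≤ ringKrullDim (X.presheaf.stalk x)) :
    DimLE (cplι U ≫ g) (n - k) := by
  intro z
  rw [dimPt_imm (cplι U) g z]
  have hz : cplι U z ∉ U := (range_cplι U).subset ⟨z, rfl⟩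
  have := dimPt_add_le g (cplι U z) k (hU _ hz)
  omega

/-- Units of integral schemes of relative dimension at most `n` map into images from lower dimension. -/
theorem app_one_mem [IsNoetherian S] [S.IsSeparated] [T.IsSeparated] (t : T ⟶ S)
    (hqe : ∀ U : S.affineOpens, EGA4.IsQuasiExcellent Γ(S, U)) [LocallyOfFiniteType t]
    (G H : ResFun T) (one : ∀ X : SchFT T, G.F.obj X)
    (hG2 : G.F2) (hH2 : H.F2) (hG3 : G.F3) (hG4a : G.F4a one) (hG4b : G.F4b one)
    (d : ℤ) (hii : H.VanLE t d) (φ : G.F ⟶ H.F) (hiv : G.ResCompat H φ) (hv : G.KillsRegular H t one φ)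
    (Y : SchFT T) [IsIntegral Y.left] (n : ℤ) (hn : DimLE (Y.hom ≫ t) n) (hnd : n ≤ d) :
    ∃ (Z : SchFT T) (i : Z ⟶ Y) (b : G.F.obj Z), DimLE (Z.hom ≫ t) (n - 1) ∧
      (φ.app Y).hom (one Y) = (H.F.map i).hom ((φ.app Z).hom b) := by
  haveI := loft Y
  haveI : QuasiCompact Y.hom := Y.prop.2.1
  haveI : IsSeparated Y.hom := Y.prop.2.2
  haveI : IsSeparated t := inferInstance
  haveI : QuasiCompact t := inferInstance
  haveI : IsIntegral ((𝟭 Scheme.{u}).obj Y.left) := inferInstanceAs (IsIntegral Y.left)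
  obtain ⟨Y₁, hY₁, p, hp, V, R, hV, hiso, hRreg, hRq, hRη, hR2⟩ := exists_model (Y.hom ≫ t) hqe
  -- the cartesian square over the open where `p` is an isomorphism
  let Y' : SchFT T := prp Y p
  haveI : IsIntegral Y'.left := hY₁
  let pm : Y' ⟶ Y := prpHom Y p
  let U : SchFT T := opn Y V
  let U' : SchFT T := opn Y' (p ⁻¹ᵁ V)
  let gm : U' ⟶ U := MorphismProperty.Over.homMk (p ∣_ V)
    (show p ∣_ V ≫ V.ι ≫ Y.hom = (p ⁻¹ᵁ V).ι ≫ p ≫ Y.hom by rw [morphismRestrict_ι_assoc])
    (show IsProper (p ∣_ V) from inferInstance)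
  haveI : Nonempty (V : Scheme.{u}) := ⟨⟨_, hV⟩⟩
  haveI : IsIntegral (V : Scheme.{u}) := isIntegral_of_isOpenImmersion V.ι
  have hsq := hG3 (U := U) (V := U') (X := Y) (Y := Y') V.ι inferInstance rfl (p ⁻¹ᵁ V).ι inferInstance rfl pm gm
    (isPullback_morphismRestrict p V).flip
  let a : G.F.obj Y := one Y - (G.F.map pm).hom (one Y')
  have ha : (G.res (U := U) V.ι inferInstance rfl).hom a = 0 := by
    have h1 := hG4a (U := U) (X := Y) V.ι inferInstance rfl (Or.inl inferInstance)
    have h2 := hG4a (U := U') (X := Y') (p ⁻¹ᵁ V).ι inferInstance rfl (Or.inl inferInstance)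
    have h3 := hG4b gm (show IsIso (p ∣_ V) from hiso) (Or.inl (show IsIntegral (V : Scheme.{u}) from inferInstance))
    have h4 : (G.res (U := U) V.ι inferInstance rfl).hom ((G.F.map pm).hom (one Y')) =
        (G.F.map gm).hom ((G.res (U := U') (X := Y') (p ⁻¹ᵁ V).ι inferInstance rfl).hom (one Y')) :=
      DFunLike.congr_fun (congrArg (fun f => f.hom) hsq) (one Y')
    show _ = _
    rw [show a = one Y - (G.F.map pm).hom (one Y') from rfl, map_sub, h1, h4, h2, h3, sub_self]
  let Z : SchFT T := prp Y (cplι V)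
  let i : Z ⟶ Y := prpHom Y (cplι V)
  obtain ⟨b, hb⟩ := hG2 (Z := Z) (X := Y) (U := U) i V.ι inferInstance rfl
    (show IsClosedImmersion (cplι V) from inferInstance)
    (by show Set.range (cplι V).base = (Set.range V.ι.base)ᶜ
        rw [range_cplι]; exact congrArg compl (Scheme.Opens.range_ι V).symm) (AddMonoidHom.mem_ker.2 ha)
  -- the unit of the model dies
  have hη : dimPt (p ≫ Y.hom ≫ t) (genericPoint Y₁) ≤ n := by
    haveI : Surjective (p ∣_ V) := inferInstance
    obtain ⟨x, -⟩ := (p ∣_ V).surjective ⟨_, hV⟩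
    have hxη : genericPoint Y₁ ∈ p ⁻¹ᵁ V := (genericPoint_specializes x.1).mem_open (p ⁻¹ᵁ V).2 x.2
    have e1 := dimPt_imm (p ⁻¹ᵁ V).ι (p ≫ Y.hom ≫ t) ⟨_, hxη⟩
    have e2 := dimPt_imm (p ∣_ V ≫ V.ι) (Y.hom ≫ t) ⟨_, hxη⟩
    rw [morphismRestrict_ι, Category.assoc] at e2
    exact le_of_eq_of_le (e1.symm.trans e2) (hn _)
  have hφ1 : (φ.app Y').hom (one Y') = 0 := by
    let O : SchFT T := opn Y' R
    let Z₁ : SchFT T := prp Y' (cplι R)
    have hO : (φ.app O).hom (one O) = 0 := hv O (fun r => hRreg r)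
      (show QProj ((R.ι ≫ p ≫ Y.hom) ≫ t) by simpa only [Category.assoc] using hRq)
    have hres : (H.res (U := O) (X := Y') R.ι inferInstance rfl).hom ((φ.app Y').hom (one Y')) = 0 := by
      have h := DFunLike.congr_fun (congrArg (fun f => f.hom) (hiv (U := O) (X := Y') R.ι inferInstance rfl)) (one Y')
      have h2 := hG4a (U := O) (X := Y') R.ι inferInstance rfl (Or.inl inferInstance)
      refine h.symm.trans ?_
      show (φ.app O).hom ((G.res (U := O) (X := Y') R.ι inferInstance rfl).hom (one Y')) = 0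
      rw [h2]; exact hO
    obtain ⟨c, hc⟩ := hH2 (Z := Z₁) (X := Y') (U := O) (prpHom Y' (cplι R)) R.ι inferInstance rfl
      (show IsClosedImmersion (cplι R) from inferInstance)
      (by show Set.range (cplι R).base = (Set.range R.ι.base)ᶜ
          rw [range_cplι]; exact congrArg compl (Scheme.Opens.range_ι R).symm) (AddMonoidHom.mem_ker.2 hres)
    have hd : DimLE (Z₁.hom ≫ t) (d - 2) := fun z => by
      have := dimLE_cpl R (p ≫ Y.hom ≫ t) 2 n hη hR2 z
      show dimPt ((cplι R ≫ p ≫ Y.hom) ≫ t) z ≤ d - 2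
      simp only [Category.assoc]
      push_cast at this ⊢
      omega
    haveI := hii Z₁ hd
    rw [← hc, Subsingleton.elim c 0, map_zero]
  refine ⟨Z, i, b, fun z => ?_, ?_⟩
  · have := dimLE_cpl V (Y.hom ≫ t) 1 n (hn _) (fun y hy => by
      simpa using one_le_stalk_dim (fun h => hy (by rw [h]; exact hV))) z
    show dimPt ((cplι V ≫ Y.hom) ≫ t) z ≤ n - 1
    simp only [Category.assoc]
    push_cast at this ⊢
    omega
  · have e : one Y = (G.F.map i).hom b + (G.F.map pm).hom (one Y') := by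
      rw [hb]; exact (sub_add_cancel _ _).symm
    have n1 := DFunLike.congr_fun (congrArg (fun f => f.hom) (φ.naturality i)) b
    have n2 := DFunLike.congr_fun (congrArg (fun f => f.hom) (φ.naturality pm)) (one Y')
    simp only [AddCommGrpCat.hom_comp, AddMonoidHom.comp_apply] at n1 n2
    rw [e, map_add, n1, n2, hφ1, map_zero, add_zero]

/-- The detection lemma. -/
theorem app_eq_zero [IsNoetherian S] [S.IsSeparated] [T.IsSeparated] (t : T ⟶ S)
    (hqe : ∀ U : S.affineOpens, EGA4.IsQuasiExcellent Γ(S, U)) [LocallyOfFiniteType t]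
    (G H : ResFun T) (one : ∀ X : SchFT T, G.F.obj X)
    (hG2 : G.F2) (hH2 : H.F2) (hG3 : G.F3) (hG4a : G.F4a one) (hG4b : G.F4b one) (hG5 : G.F5 t one)
    (d : ℤ) (hi : G.GenLE t one d) (hii : H.VanLE t d)
    (φ : G.F ⟶ H.F) (hiv : G.ResCompat H φ) (hv : G.KillsRegular H t one φ)
    (X : SchFT T) (a : G.F.obj X) : (φ.app X).hom a = 0 := by
  have gen : ∀ (Z : SchFT T) (P : SchFT T → Prop), (∀ W, IsIntegral W.left → P W → (φ.app W).hom (one W) = 0) →
      ∀ b ∈ AddSubgroup.closure {b : G.F.obj Z | ∃ (W : SchFT T) (f : W ⟶ Z), IsIntegral W.left ∧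
        P W ∧ b = (G.F.map f).hom (one W)}, (φ.app Z).hom b = 0 := by
    intro Z P hP b hb
    induction hb using AddSubgroup.closure_induction with
    | mem x hx =>
      obtain ⟨W, f, hW, hPW, rfl⟩ := hx
      have h := DFunLike.congr_fun (congrArg (fun g => g.hom) (φ.naturality f)) (one W)
      simp only [AddCommGrpCat.hom_comp, AddMonoidHom.comp_apply] at h
      rw [h, hP W hW hPW, map_zero]
    | zero => exact map_zero _
    | add x y _ _ hx hy => rw [map_add, hx, hy, add_zero]
    | neg x _ hx => rw [map_neg, hx, neg_zero]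
  have low : ∀ W : SchFT T, IsIntegral W.left → DimLE (W.hom ≫ t) (d - 1) → (φ.app W).hom (one W) = 0 := by
    intro W _ hW
    obtain ⟨Z, i, b, hZ, e⟩ := app_one_mem t hqe G H one hG2 hH2 hG3 hG4a hG4b d hii φ hiv hv W (d - 1) hW (by omega)
    haveI := hii Z (fun z => by have := hZ z; omega)
    rw [e, Subsingleton.elim ((φ.app Z).hom b) 0, map_zero]
  refine gen X (fun W => DimLE (W.hom ≫ t) d) (fun W _ hW => ?_) a (by rw [hi X]; exact AddSubgroup.mem_top _)
  obtain ⟨Z, i, b, hZ, e⟩ := app_one_mem t hqe G H one hG2 hH2 hG3 hG4a hG4b d hii φ hiv hv W d hW le_rfl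
  rw [e, gen Z (fun W' => ∀ n : ℤ, DimLE (Z.hom ≫ t) n → DimLE (W'.hom ≫ t) n)
    (fun W' hW' h => low W' hW' (h (d - 1) hZ)) b (by rw [hG5 Z]; exact AddSubgroup.mem_top _), map_zero]

end DetRegLib
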