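import Groth.Agent.DetRegLib.Dim
import Groth.Agent.S0025
import Groth.Agent.S9688
import Groth.Agent.S9802
import Groth.Agent.S9833
import Groth.Agent.S0566
import Groth.Agent.S2654
import Groth.Agent.S2351
import Groth.Agent.S4452
import Groth.Agent.S9717
import Groth.Agent.S9708
import Groth.Agent.LocFFLib.Norm
import Groth.Agent.PurBirLib.Qf
import Groth.Agent.BMLib.PtMap
import Groth.Agent.CycP1Lib.Graph
import Groth.Agent.MiscFlat6.NormalLowDim
import Groth.Agent.ChowLib.Embed

/-!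
# Models of integral schemes over quasi-excellent bases

An integral scheme of finite type over a quasi-excellent Noetherian scheme `S` has a proper birational model with
an open regular quasi-projective part whose complement has codimension at least two (Chow's lemma and
normalization).
-/

set_option autoImplicit false
set_option linter.style.haveILetI false
set_option backward.isDefEq.respectTransparency false
set_option backward.isDefEq.respectTransparency.types false
universe u

open AlgebraicGeometry CategoryTheory CategoryTheory.Limits TopologicalSpace W4c6detectregular2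

noncomputable section

namespace DetRegLib

/-- The regular locus of a scheme locally of finite type over a quasi-excellent scheme is open. -/
theorem isOpen_regular {X S : Scheme.{u}} (f : X ⟶ S) [LocallyOfFiniteType f]
    (hqe : ∀ U : S.affineOpens, EGA4.IsQuasiExcellent Γ(S, U)) :
    IsOpen {x : X | IsRegularLocalRing (X.presheaf.stalk x)} := by
  rw [isOpen_iff_forall_mem_open]
  intro x hx
  obtain ⟨U, hU, hsU, -⟩ := exists_isAffineOpen_mem_and_subset (X := S) (x := f x) (U := ⊤) trivial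
  obtain ⟨V, hV, hxV, hVU⟩ := exists_isAffineOpen_mem_and_subset (X := X) (x := x) (U := f ⁻¹ᵁ U) hsU
  letI : Algebra Γ(S, U) Γ(X, V) := (f.appLE U V hVU).hom.toAlgebra
  have hopen := (hqe ⟨U, hU⟩).2.2 Γ(X, V) (f.finiteType_appLE hU hV hVU)
  have key : ∀ (y : X) (hy : y ∈ V), IsRegularLocalRing (X.presheaf.stalk y) ↔
      (hV.primeIdealOf ⟨y, hy⟩) ∈ EGA4.regLocus Γ(X, V) := fun y hy => by
    let _hA := TopCat.Presheaf.algebra_section_stalk X.presheaf (⟨y, hy⟩ : V)
    haveI := hV.isLocalization_stalk ⟨y, hy⟩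
    have e : X.presheaf.stalk y ≃+* Localization.AtPrime (hV.primeIdealOf ⟨y, hy⟩).asIdeal :=
      (IsLocalization.algEquiv (hV.primeIdealOf ⟨y, hy⟩).asIdeal.primeCompl (X.presheaf.stalk y)
        (Localization.AtPrime (hV.primeIdealOf ⟨y, hy⟩).asIdeal)).toRingEquiv
    exact ⟨fun h => IsRegularLocalRing.of_ringEquiv e, fun h =>
      @IsRegularLocalRing.of_ringEquiv _ _ h _ _ e.symm⟩
  refine ⟨hV.fromSpec '' EGA4.regLocus Γ(X, V), ?_, hV.fromSpec.isOpenEmbedding.isOpenMap _ hopen, ?_⟩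
  · rintro _ ⟨q, hq, rfl⟩
    have hmem : hV.fromSpec q ∈ V := by
      show hV.fromSpec q ∈ (V : Set X)
      rw [← hV.range_fromSpec]; exact ⟨q, rfl⟩
    refine (key _ hmem).2 ?_
    rwa [show hV.primeIdealOf ⟨hV.fromSpec q, hmem⟩ = q from
      hV.fromSpec.isOpenEmbedding.injective (hV.fromSpec_primeIdealOf _)]
  · exact ⟨_, (key x hxV).1 hx, hV.fromSpec_primeIdealOf ⟨x, hxV⟩⟩

/-- Affine opens of schemes locally of finite type over a quasi-excellent scheme are Nagata. -/
theorem isNagata_affine {X S : Scheme.{u}} (f : X ⟶ S) [LocallyOfFiniteType f]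
    (hqe : ∀ U : S.affineOpens, EGA4.IsQuasiExcellent Γ(S, U)) (V : X.Opens) (hV : IsAffineOpen V) :
    CAlg.IsNagata Γ(X, V) := by
  let ι := {W : X.affineOpens // ∃ U : S.affineOpens, (W : X.Opens) ≤ f ⁻¹ᵁ (U : S.Opens)}
  refine Groth.Agent.S9833.result X (fun i : ι => (i.1 : X.Opens)) ?_ (fun i => i.1.2) (fun i => ?_) V hV
  · refine eq_top_iff.2 fun x _ => ?_
    obtain ⟨U, hU, hsU, -⟩ := exists_isAffineOpen_mem_and_subset (X := S) (x := f x) (U := ⊤) trivial
    obtain ⟨W, hW, hxW, hWU⟩ := exists_isAffineOpen_mem_and_subset (X := X) (x := x) (U := f ⁻¹ᵁ U) hsU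
    exact Opens.mem_iSup.2 ⟨⟨⟨W, hW⟩, ⟨U, hU⟩, hWU⟩, hxW⟩
  · obtain ⟨⟨W, hW⟩, ⟨U, hU⟩, hWU⟩ := i
    letI : Algebra Γ(S, U) Γ(X, W) := (f.appLE U W hWU).hom.toAlgebra
    haveI : Algebra.FiniteType Γ(S, U) Γ(X, W) := f.finiteType_appLE hU hW hWU
    exact Groth.Agent.S0566.result Γ(S, U) (Groth.Agent.S2654.result _ (hqe ⟨U, hU⟩)) Γ(X, W)

theorem bir_comp {X Y Z : Scheme.{u}} [IsIntegral X] [IsIntegral Y] [IsIntegral Z] {g : X ⟶ Y} {h : Y ⟶ Z}
    (hg : PurBirLib.Bir g) (hh : PurBirLib.Bir h) : PurBirLib.Bir (g ≫ h) := by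
  refine ⟨by rw [Scheme.Hom.comp_apply, hg.1, hh.1], ?_⟩
  haveI := hg.2
  haveI : IsIso (h.stalkMap (g (genericPoint X))) := by rw [hg.1]; exact hh.2
  rw [Scheme.Hom.stalkMap_comp]
  infer_instance

theorem bir_of_comp {X Y Z : Scheme.{u}} [IsIntegral X] [IsIntegral Y] [IsIntegral Z] {g : X ⟶ Y} {h : Y ⟶ Z}
    (hgh : PurBirLib.Bir (g ≫ h)) (hh : PurBirLib.Bir h) : PurBirLib.Bir g := by
  have hη : g (genericPoint X) = genericPoint Y :=
    PurBirLib.eq_generic_of_map_generic h hh (by rw [← Scheme.Hom.comp_apply]; exact hgh.1)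
  refine ⟨hη, ?_⟩
  haveI : IsIso (h.stalkMap (g (genericPoint X))) := by rw [hη]; exact hh.2
  haveI : IsIso (h.stalkMap (g (genericPoint X)) ≫ g.stalkMap (genericPoint X)) := by
    rw [← Scheme.Hom.stalkMap_comp]; exact hgh.2
  exact IsIso.of_isIso_comp_left (h.stalkMap (g (genericPoint X))) _

theorem bir_of_isOpenImmersion {X Y : Scheme.{u}} [IsIntegral X] [IsIntegral Y] (g : X ⟶ Y) [IsOpenImmersion g] :
    PurBirLib.Bir g :=
  PurBirLib.bir_of_open g ⟨⊤, ⟨genericPoint X, trivial⟩, inferInstance⟩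

theorem bir_of_comp_left {X Y Z : Scheme.{u}} [IsIntegral X] [IsIntegral Y] [IsIntegral Z] {g : X ⟶ Y} {h : Y ⟶ Z}
    (hgh : PurBirLib.Bir (g ≫ h)) (hg : PurBirLib.Bir g) : PurBirLib.Bir h := by
  refine ⟨by rw [← hg.1, ← Scheme.Hom.comp_apply]; exact hgh.1, ?_⟩
  haveI := hg.2
  haveI : IsIso (h.stalkMap (g (genericPoint X)) ≫ g.stalkMap (genericPoint X)) := by
    rw [← Scheme.Hom.stalkMap_comp]; exact hgh.2
  have : IsIso (h.stalkMap (g (genericPoint X))) := IsIso.of_isIso_comp_right _ (g.stalkMap (genericPoint X))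
  rwa [hg.1] at this

/-- Chow's lemma for an integral source: an integral closed part of Chow's cover which is birational. -/
theorem exists_chow {Y S : Scheme.{u}} [IsIntegral Y] [IsNoetherian S] (f : Y ⟶ S) [IsSeparated f]
    [LocallyOfFiniteType f] [QuasiCompact f] :
    ∃ (X₂ : Scheme.{u}) (_ : IsIntegral X₂) (π : X₂ ⟶ Y) (n : ℕ) (j : X₂ ⟶ CohB1.ProjSpaceOver n S),
      IsProper π ∧ IsImmersion j ∧ j ≫ CohB1.ProjSpaceOver.toBase n S = π ≫ f ∧ PurBirLib.Bir π := by
  obtain ⟨n, X', π, j, hj, hcomm, hπ, -, U, hU, hiso⟩ := Groth.Agent.S0025.result f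
  haveI := LocallyOfFiniteType.isLocallyNoetherian f
  haveI := LocallyOfFiniteType.isLocallyNoetherian π
  obtain ⟨y, hy⟩ := hU.nonempty
  let W : X'.Opens := π ⁻¹ᵁ U
  haveI : IsIso (π ∣_ U) := hiso
  haveI : Nonempty (U : Scheme.{u}) := ⟨⟨y, hy⟩⟩
  haveI : IsIntegral (U : Scheme.{u}) := isIntegral_of_isOpenImmersion U.ι
  haveI : IsIntegral (W : Scheme.{u}) := IsIntegral.of_isIso (inv (π ∣_ U))
  haveI : QuasiCompact W.ι := inferInstance
  haveI : IsIntegral W.ι.image := CycP1Lib.isIntegral_image W.ι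
  haveI : IsOpenImmersion W.ι.toImage := inferInstance
  refine ⟨W.ι.image, inferInstance, W.ι.imageι ≫ π, n, W.ι.imageι ≫ j, inferInstance, inferInstance,
    by rw [Category.assoc, Category.assoc, hcomm], ?_⟩
  have h1 : PurBirLib.Bir (W.ι.toImage ≫ (W.ι.imageι ≫ π)) := by
    rw [Scheme.Hom.toImage_imageι_assoc, ← morphismRestrict_ι]
    exact bir_comp (bir_of_isOpenImmersion (π ∣_ U)) (bir_of_isOpenImmersion U.ι)
  exact bir_of_comp_left h1 (bir_of_isOpenImmersion _)

/-- Proper birational models with a big regular quasi-projective open part. -/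
theorem exists_model {Y S : Scheme.{u}} [IsIntegral Y] [IsNoetherian S] (f : Y ⟶ S) [IsSeparated f]
    [LocallyOfFiniteType f] [QuasiCompact f] (hqe : ∀ U : S.affineOpens, EGA4.IsQuasiExcellent Γ(S, U)) :
    ∃ (Y₁ : Scheme.{u}) (_ : IsIntegral Y₁) (p : Y₁ ⟶ Y) (_ : IsProper p) (V : Y.Opens) (R : Y₁.Opens),
      genericPoint Y ∈ V ∧ IsIso (p ∣_ V) ∧
      (∀ r : R, IsRegularLocalRing (R.toScheme.presheaf.stalk r)) ∧ QProj (R.ι ≫ p ≫ f) ∧
      genericPoint Y₁ ∈ R ∧ ∀ y : Y₁, y ∉ R → (((2 : ℕ) : ℕ∞) : WithBot ℕ∞) ≤ ringKrullDim (Y₁.presheaf.stalk y) := by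
  obtain ⟨X₂, _, π, n, j, hπ, hj, hcomm, hbir⟩ := exists_chow f
  haveI := ChowLib.isProper_toBase n S
  haveI := LocallyOfFiniteType.isLocallyNoetherian (CohB1.ProjSpaceOver.toBase n S)
  haveI : QuasiCompact j := by
    haveI : QuasiCompact (j ≫ CohB1.ProjSpaceOver.toBase n S) := by rw [hcomm]; infer_instance
    exact QuasiCompact.of_comp j (CohB1.ProjSpaceOver.toBase n S)
  haveI : IsIntegral j.image := CycP1Lib.isIntegral_image j
  haveI := LocallyOfFiniteType.isLocallyNoetherian j.imageι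
  haveI : QuasiCompact (j.image.fromSpecStalk (genericPoint j.image)) := inferInstance
  haveI : QuasiSeparated (j.image.fromSpecStalk (genericPoint j.image)) := inferInstance
  let ν := Curv2.normalizationι j.image
  haveI : IsFinite ν := Groth.Agent.S9688.result j.image fun V hV hne => by
    haveI : Nonempty (V : Scheme.{u}) := hne
    exact (Groth.Agent.S9802.result j.image).1
      (fun U hU => isNagata_affine (j.imageι ≫ CohB1.ProjSpaceOver.toBase n S) hqe U hU) j.image (𝟙 _) V hV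
  obtain ⟨_, -, hνs, -⟩ := Groth.Agent.S2351.result j.image
  haveI : Surjective ν := hνs
  haveI : IsOpenImmersion j.toImage := inferInstance
  let Y₁ := pullback ν j.toImage
  haveI : IsOpenImmersion (pullback.fst ν j.toImage) := inferInstance
  haveI : Nonempty Y₁ := ⟨((pullback.snd ν j.toImage).surjective (genericPoint X₂)).choose⟩
  haveI : IsIntegral Y₁ := isIntegral_of_isOpenImmersion (pullback.fst ν j.toImage)
  let p : Y₁ ⟶ Y := pullback.snd ν j.toImage ≫ π
  haveI : IsProper p := inferInstanceAs (IsProper (pullback.snd ν j.toImage ≫ π))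
  have hp : PurBirLib.Bir p := by
    refine bir_comp ?_ hbir
    refine bir_of_comp (h := j.toImage) ?_ (bir_of_isOpenImmersion _)
    rw [← pullback.condition]
    exact bir_comp (bir_of_isOpenImmersion _) (LocFFLib.normalization_bir j.image)
  obtain ⟨V, hV, hViso⟩ := PurBirLib.exists_isIso_restrict p hp (genericPoint Y₁) hp.2
  rw [hp.1] at hV
  haveI : LocallyOfFiniteType (p ≫ f) := inferInstance
  haveI := LocallyOfFiniteType.isLocallyNoetherian (p ≫ f)
  let R : Y₁.Opens := ⟨{x | IsRegularLocalRing (Y₁.presheaf.stalk x)}, isOpen_regular (p ≫ f) hqe⟩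
  have hlow : ∀ y : Y₁, ringKrullDim (Y₁.presheaf.stalk y) ≤ 1 → IsRegularLocalRing (Y₁.presheaf.stalk y) :=
    fun y hy => by
      let e := (asIso ((pullback.fst ν j.toImage).stalkMap y)).commRingCatIsoToRingEquiv
      haveI := LocFFLib.normalization_isNormal j.image (pullback.fst ν j.toImage y)
      haveI : IsIntegrallyClosed (Y₁.presheaf.stalk y) :=
        haveI := (LocFFLib.normalization_isNormal j.image (pullback.fst ν j.toImage y)).2
        IsIntegrallyClosed.of_equiv e
      exact MiscFlat6.isRegularLocalRing_of_normal_dim_le_one _ hy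
  refine ⟨Y₁, inferInstance, p, inferInstance, V, R, hV, hViso, fun r => ?_, ?_, ?_, fun y hy => ?_⟩
  · exact @IsRegularLocalRing.of_ringEquiv _ _ r.2 _ _
      (asIso (R.ι.stalkMap r)).commRingCatIsoToRingEquiv
  · refine ⟨_, R.ι ≫ pullback.fst ν j.toImage, ν ≫ (j.imageι ≫ CohB1.ProjSpaceOver.toBase n S),
      inferInstance, ?_, ?_⟩
    · refine Groth.Agent.S9708.result _ _ (Groth.Agent.S4452.result ν)
        (Groth.Agent.S9708.result _ _ (Groth.Agent.S4452.result j.imageι) ?_)
      exact Groth.Agent.S9717.result _ ⟨n, 𝟙 _, inferInstance, Category.id_comp _⟩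
    · simp only [Category.assoc, p]
      rw [pullback.condition_assoc, Scheme.Hom.toImage_imageι_assoc, hcomm]
  · refine hlow _ ?_
    have : ringKrullDim (Y₁.presheaf.stalk (genericPoint Y₁)) = 0 :=
      ringKrullDim_eq_zero_of_field Y₁.functionField
    rw [this]; exact zero_le_one
  · rw [codimPt_eq Y₁ y]
    by_contra hc
    refine hy (hlow y ?_)
    rw [codimPt_eq Y₁ y]
    have : codimPt Y₁ y ≤ 1 := by
      by_contra h'
      exact hc (by exact_mod_cast (show 2 ≤ codimPt Y₁ y by omega))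
    exact_mod_cast this

end DetRegLib
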